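import Cfsg.Agent.H623.GU.Geo
import Cfsg.Agent.H531.GU.Neck
import Cfsg.Agent.H674.XZ.Gal

/-!
# S4791, S4927 (F6): almost `p`-rationality from the labels (helper531)

* `LOp L X` : the operators preserving the `L`-valued functions on `X`;
* `SR L P` : the polynomials over `L` in the variables satisfying `P`; `evR_mem` : their evaluations are `L`-valued;
* `alm_of_lb` : a character whose label is supported on the labels `c` with `p • c = 0` has values in `ℚ(ζ_p)`.
-/

set_option autoImplicit false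
set_option linter.unusedVariables false
set_option linter.unusedSectionVars false

open scoped ComplexConjugate
open Cfsg Cfsg.Agent.H615.GU Cfsg.Agent.H577.GLB.Std Cfsg.Agent.H623.GU

namespace Cfsg.Agent.H531.XZ

universe u v

/-! ### operators preserving the `L`-valued functions -/

section ops

variable (L : Subfield ℂ) (X : Type*)

/-- the operators preserving the `L`-valued functions -/
def LOp : Subring (Module.End ℂ (X → ℂ)) where
  carrier := {A | ∀ f : X → ℂ, (∀ x, f x ∈ L) → ∀ x, A f x ∈ L}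
  mul_mem' := fun {A B} hA hB f hf => hA _ (hB f hf)
  one_mem' := fun f hf => hf
  add_mem' := fun {A B} hA hB f hf x => L.add_mem (hA f hf x) (hB f hf x)
  zero_mem' := fun f _ x => L.zero_mem
  neg_mem' := fun {A} hA f hf x => L.neg_mem (hA f hf x)

variable {L X}

theorem mem_LOp {A : Module.End ℂ (X → ℂ)} : A ∈ LOp L X ↔ ∀ f : X → ℂ, (∀ x, f x ∈ L) → ∀ x, A f x ∈ L := Iff.rfl

theorem smul_LOp {a : ℂ} (ha : a ∈ L) {A : Module.End ℂ (X → ℂ)} (hA : A ∈ LOp L X) : a • A ∈ LOp L X :=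
  fun f hf x => L.mul_mem ha (hA f hf x)

theorem ev_mem {t : ℂ} (ht : t ∈ L) (P : Polynomial ℤ) : ev t P ∈ L := by
  unfold ev
  rw [Polynomial.aeval_eq_sum_range]
  refine L.sum_mem fun i _ => ?_
  rw [zsmul_eq_mul]
  exact L.mul_mem (L.intCast_mem _) (L.pow_mem ht _)

theorem nwt_mem {R : Type*} [Ring R] {S : Subring R} {u : ℕ → R} (hu : ∀ j, u j ∈ S) (m : ℕ) :
    H531.GU.nwt u m ∈ S := by
  induction m using Nat.strong_induction_on with
  | _ m ih =>
    cases m with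
    | zero => rw [H531.GU.nwt_zero]; exact S.zero_mem
    | succ m =>
      rw [H531.GU.nwt_succ]
      refine S.sub_mem (S.nsmul_mem (hu _) _) (S.sum_mem fun r hr => ?_)
      exact S.mul_mem (ih r (Finset.mem_range.1 hr)) (hu _)

theorem uu_mem {t : ℂ} (ht : t ∈ L) (j : ℕ) : H531.GU.uu t j ∈ LOp L Col := by
  intro f hf l
  rw [H531.GU.uu_apply]
  exact L.sum_mem fun c _ => L.mul_mem (ev_mem ht _) (hf _)

theorem pp_mem {t : ℂ} (ht : t ∈ L) (j : ℕ) : H531.GU.pp t j ∈ LOp L Col :=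
  nwt_mem (fun j => uu_mem ht j) j

theorem lft_mem {I : Type*} {A : Module.End ℂ (Col → ℂ)} (hA : A ∈ LOp L Col) (i : I) :
    H531.GU.lft i A ∈ LOp L (Ty I) :=
  fun f hf lam => hA (fun c => f (lam.update i c)) (fun c => hf _) (lam i)

end ops

/-! ### polynomials over `L` -/

section poly

variable (L : Subfield ℂ) {M : ℕ} (P : Var M → Prop)

/-- the polynomials over `L` in the variables satisfying `P` -/
noncomputable def PhL : MvPolynomial {v : Var M // P v} L →+* RS M :=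
  ((MvPolynomial.rename (Subtype.val : {v : Var M // P v} → Var M) :
    MvPolynomial {v : Var M // P v} ℂ →ₐ[ℂ] RS M) : MvPolynomial {v : Var M // P v} ℂ →+* RS M).comp
    (MvPolynomial.map L.subtype)

/-- the polynomials over `L` in the variables satisfying `P` -/
noncomputable def SR : Subring (RS M) := (PhL L P).range

variable {L P}

theorem C_mem {a : ℂ} (ha : a ∈ L) : MvPolynomial.C a ∈ SR L P := by
  refine ⟨MvPolynomial.C ⟨a, ha⟩, ?_⟩
  rw [PhL, RingHom.comp_apply, MvPolynomial.map_C]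
  exact MvPolynomial.rename_C _ _

theorem smul_mem {a : ℂ} (ha : a ∈ L) {x : RS M} (hx : x ∈ SR L P) : a • x ∈ SR L P := by
  rw [MvPolynomial.smul_eq_C_mul]
  exact (SR L P).mul_mem (C_mem ha) hx

theorem X_mem {v : Var M} (hv : P v) : (MvPolynomial.X v : RS M) ∈ SR L P := by
  refine ⟨MvPolynomial.X ⟨v, hv⟩, ?_⟩
  rw [PhL, RingHom.comp_apply, MvPolynomial.map_X]
  exact MvPolynomial.rename_X _ _

variable {K : Type v} [Field K] {θ : K →*₀ ℂ} {Q : ℤ}

theorem vac_mem {I : Type*} (lam : Ty I) : H615.GU.vac lam ∈ L := by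
  unfold H615.GU.vac
  split_ifs
  · exact L.one_mem
  · exact L.zero_mem

/-- the evaluations of polynomials over `L` are `L`-valued -/
theorem evR_mem (hP : ∀ v, P v → Pop θ Q M v.1 v.2 ∈ LOp L (Ty (Orb K Q))) {x : RS M} (hx : x ∈ SR L P)
    (lam : Ty (Orb K Q)) : H615.GU.evR θ Q M x lam ∈ L := by
  classical
  obtain ⟨y, rfl⟩ := hx
  revert lam
  refine MvPolynomial.induction_on' (P := fun y => ∀ lam, H615.GU.evR θ Q M (PhL L P y) lam ∈ L) y ?_ ?_
  · intro m a lam
    have h1 : PhL L P (MvPolynomial.monomial m a) =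
        (a : ℂ) • (MvPolynomial.monomial (m.mapDomain Subtype.val) (1 : ℂ) : RS M) := by
      rw [PhL, RingHom.comp_apply, MvPolynomial.map_monomial, MvPolynomial.smul_monomial, smul_eq_mul, mul_one]
      exact MvPolynomial.rename_monomial _ _ _
    rw [h1, map_smul, evR_monomial, Pi.smul_apply, smul_eq_mul]
    refine L.mul_mem a.2 ?_
    have h2 : ((m.mapDomain Subtype.val).support.toList.map fun v : Var M =>
        Pop θ Q M v.1 v.2 ^ (m.mapDomain Subtype.val) v).prod ∈ LOp L (Ty (Orb K Q)) := by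
      refine Subring.list_prod_mem _ fun z hz => ?_
      obtain ⟨v, hv, rfl⟩ := List.mem_map.1 hz
      refine Subring.pow_mem _ (hP v ?_) _
      have h3 := Finsupp.mapDomain_support (Finset.mem_toList.1 hv)
      obtain ⟨w, -, rfl⟩ := Finset.mem_image.1 h3
      exact w.2
    exact h2 _ (fun lam => vac_mem lam) lam
  · intro y z hy hz lam
    rw [map_add, map_add, Pi.add_apply]
    exact L.add_mem (hy lam) (hz lam)

end poly

/-! ### the labels of order dividing `p` -/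

section labels

variable (Q : ℤ) (M p : ℕ)

/-- the variables with labels of order dividing `p` -/
def Pv (v : Var M) : Prop := 0 < v.1 ∧ TorZ Q M v.1 v.2 ∧ p • v.2 = 0

variable {Q M p}

theorem rv_mem [NeZero M] {L : Subfield ℂ} {c : ZMod M} (hc : p • c = 0) (k : ℕ) : rv Q M k c ∈ SR L (Pv Q M p) := by
  unfold rv
  split_ifs with h
  · refine X_mem ⟨h.1, ?_, ?_⟩
    · obtain ⟨j, hj⟩ := H614.GLn.RSt.sameZ_canon (Q := Q) c
      have h1 : ((Q : ZMod M) ^ k - 1) * c = 0 := h.2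
      change ((Q : ZMod M) ^ k - 1) * canon Q M c = 0
      rw [hj, mul_left_comm, h1, mul_zero]
    · obtain ⟨j, hj⟩ := H614.GLn.RSt.sameZ_canon (Q := Q) c
      change p • canon Q M c = 0
      rw [hj, ← mul_smul_comm, hc, mul_zero]
  · exact (SR L (Pv Q M p)).zero_mem

theorem sch_mem [NeZero M] {L : Subfield ℂ} {m : ℕ} {c : ZMod M} {β : Fin m → ℕ} (h : p • c ≠ 0 → bsz β = 0) :
    Sch Q M c β ∈ SR L (Pv Q M p) := by
  unfold Sch
  refine (SR L (Pv Q M p)).sum_mem fun ν _ => smul_mem ?_ ?_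
  · refine L.div_mem (L.intCast_mem _) (L.prod_mem fun i _ => L.mul_mem (L.pow_mem (natCast_mem L _) _) (natCast_mem L _))
  · refine (SR L (Pv Q M p)).multiset_prod_mem _ fun z hz => ?_
    obtain ⟨j, hj, rfl⟩ := Multiset.mem_map.1 hz
    by_cases hc : p • c = 0
    · exact rv_mem hc _
    · exfalso
      have h0 := h hc
      have h1 : j ≤ ν.parts.sum := Multiset.le_sum_of_mem hj
      rw [ν.parts_sum] at h1
      have h2 := ν.parts_pos hj
      have h3 : bsz β = ∑ i, β i - ∑ i : Fin m, (i : ℕ) := rfl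
      omega

theorem schP_mem [NeZero M] {L : Subfield ℂ} {m : ℕ} {t : ZMod M → Fin m → ℕ} (h : ∀ c, p • c ≠ 0 → bsz (t c) = 0) :
    SchP Q M t ∈ SR L (Pv Q M p) :=
  (SR L (Pv Q M p)).prod_mem fun c _ => sch_mem (h c)

end labels

/-! ### the character values -/

section values

variable {K : Type v} [Field K] {θ : K →*₀ ℂ} {Q : ℤ} {M : ℕ}

theorem Pop_mem [Finite K] {L : Subfield ℂ} {k : ℕ} {c : ZMod M}
    (h : ∀ o : Orb K Q, 0 < k → dOrb K Q o ∣ k → thO θ Q M k c o ∈ L) :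
    Pop θ Q M k c ∈ LOp L (Ty (Orb K Q)) := by
  classical
  have : Fintype (Orb K Q) := Fintype.ofFinite _
  rw [Pop, finsum_eq_sum_of_fintype]
  refine (LOp L (Ty (Orb K Q))).sum_mem fun o _ => ?_
  split_ifs with ho
  · exact smul_LOp (h o ho.1 ho.2) (lft_mem (pp_mem (L.pow_mem (L.intCast_mem _) _) _) o)
  · exact (LOp L (Ty (Orb K Q))).zero_mem

/-- the exponent of a label of order dividing `p` -/
theorem expo_dvd (hM : M ≠ 0) {p k : ℕ} {c : ZMod M} (hT : TorZ Q M k c) (hc : p • c = 0) :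
    (Q ^ k - 1) ∣ (p : ℤ) * expoZ Q M k c := by
  have : NeZero M := ⟨hM⟩
  have hM' : (M : ℤ) ≠ 0 := by exact_mod_cast hM
  -- `M ∣ c.val * (Q ^ k - 1)`
  have h1 : (M : ℤ) ∣ (c.val : ℤ) * (Q ^ k - 1) := by
    rw [← ZMod.intCast_zmod_eq_zero_iff_dvd]
    have h2 : ((Q : ZMod M) ^ k - 1) * c = 0 := hT
    push_cast
    rw [ZMod.natCast_zmod_val, mul_comm]
    exact h2
  have h3 : (M : ℤ) ∣ (p : ℤ) * (c.val : ℤ) := by
    rw [← ZMod.intCast_zmod_eq_zero_iff_dvd]
    push_cast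
    rw [ZMod.natCast_zmod_val, ← nsmul_eq_mul]
    exact hc
  obtain ⟨r, hr⟩ := h3
  refine ⟨r, ?_⟩
  have h4 : expoZ Q M k c * (M : ℤ) = (c.val : ℤ) * (Q ^ k - 1) := Int.ediv_mul_cancel h1
  have h5 : (p : ℤ) * expoZ Q M k c * M = (Q ^ k - 1) * r * M := by
    calc (p : ℤ) * expoZ Q M k c * M = p * (expoZ Q M k c * M) := by ring
      _ = (p * (c.val : ℤ)) * (Q ^ k - 1) := by rw [h4]; ring
      _ = (Q ^ k - 1) * r * M := by rw [hr]; ring
  exact mul_right_cancel₀ hM' h5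

theorem thO_mem [Finite K] (hM : Nat.card Kˣ = M) (hQ : IsUnit (Q : ZMod M)) {p : ℕ} (hp : p ≠ 0) {L : Subfield ℂ}
    (hL : ∀ z : ℂ, z ^ p = 1 → z ∈ L) {k : ℕ} {c : ZMod M} (hT : TorZ Q M k c) (hc : p • c = 0) {o : Orb K Q}
    (ho : dOrb K Q o ∣ k) : thO θ Q M k c o ∈ L := by
  classical
  have : Fintype {x : Kˣ // (Quotient.mk (orbSetoid K Q) x) = o} := Fintype.ofFinite _
  rw [thO, finsum_eq_sum_of_fintype]
  refine L.sum_mem fun x _ => hL _ ?_
  have hM0 : M ≠ 0 := by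
    rw [← hM]
    exact Nat.card_pos.ne'
  obtain ⟨r, hr⟩ := expo_dvd hM0 hT hc
  have hx : ((x : Kˣ)) ^ (Q ^ k) = x := H531.GU.pow_of_dvd hM hQ x.2 ho
  have hx1 : ((x : Kˣ)) ^ (Q ^ k - 1) = 1 := by rw [zpow_sub, hx, zpow_one, mul_inv_cancel]
  have hne : θ ((x : Kˣ) : K) ≠ 0 := (map_ne_zero θ).2 (Units.ne_zero _)
  have h1 : (θ ((x : Kˣ) : K) ^ expoZ Q M k c) ^ p = θ ((x : Kˣ) : K) ^ ((p : ℤ) * expoZ Q M k c) := by
    rw [mul_comm, zpow_mul, zpow_natCast]
  have h2 : θ ((x : Kˣ) : K) ^ (Q ^ k - 1) = 1 := by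
    rw [← map_zpow₀, ← Units.val_zpow_eq_zpow_val, hx1, Units.val_one, map_one]
  rw [h1, hr, zpow_mul, h2, one_zpow]

/-- **(F6)** a character whose label is supported on the labels `c` with `p • c = 0` is almost `p`-rational -/
theorem alm_of_lb [NeZero M] {N p m n : ℕ} (hp : p.Prime) {G : ℕ → Type u} [∀ n, Group (G n)] [∀ n, Finite (G n)]
    {t : Tow θ Q M N p G} (ctx : CtxQ θ Q M N) (hn : n ≤ N) {χ : IrrCharacter (G n)} {l : LabZ Q M m n}
    (hl : (t.R n hn).IsLb χ l) (h : ∀ c, p • c ≠ 0 → bsz (l.t c) = 0) : H674.XZ.Alm p (χ : G n → ℂ) := by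
  have : Finite K := ctx.finK
  refine ⟨p, hp.pos, fun h1 => ?_, fun g => ?_⟩
  · have h2 := Nat.le_of_dvd hp.pos h1
    have h3 := hp.two_le
    nlinarith
  · set L := IntermediateField.adjoin ℚ ({Complex.exp (2 * Real.pi * Complex.I / p)} : Set ℂ) with hLdef
    have hz : IsPrimitiveRoot (Complex.exp (2 * Real.pi * Complex.I / p)) p := Complex.isPrimitiveRoot_exp p hp.ne_zero
    have hζ : Complex.exp (2 * Real.pi * Complex.I / p) ∈ L := IntermediateField.mem_adjoin_simple_self ℚ _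
    have hL : ∀ z : ℂ, z ^ p = 1 → z ∈ L.toSubfield := by
      intro z hz1
      have : NeZero p := ⟨hp.ne_zero⟩
      obtain ⟨i, -, rfl⟩ := hz.eq_pow_of_pow_eq_one hz1
      exact L.pow_mem hζ i
    obtain ⟨s, hs⟩ := hl
    have h1 := congrFun hs g
    rw [Tow.R_om, Pi.smul_apply, smul_eq_mul] at h1
    have h2 : H615.GU.evR θ Q M (SchP Q M l.t) ((t.T n hn).typ g) ∈ L.toSubfield := by
      refine evR_mem (P := Pv Q M p) (fun v hv => Pop_mem fun o _ ho => ?_) (schP_mem h) _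
      exact thO_mem ctx.card ctx.unit hp.ne_zero hL hv.2.1 hv.2.2 ho
    have hs1 : (((s : ℤ) : ℂ)) * (((s : ℤ) : ℂ)) = 1 := by
      rcases Int.units_eq_one_or s with rfl | rfl <;> simp
    have h3 : (χ : G n → ℂ) g = ((s : ℤ) : ℂ) * H615.GU.evR θ Q M (SchP Q M l.t) ((t.T n hn).typ g) := by
      rw [h1, ← mul_assoc, hs1, one_mul]
    rw [h3]
    exact L.mul_mem (L.toSubfield.intCast_mem _) h2

end values

end Cfsg.Agent.H531.XZ
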